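import Mathlib.GroupTheory.Transfer
import Mathlib.GroupTheory.Abelianization.Finite
import Mathlib.GroupTheory.Commutator.Basic
import Mathlib.GroupTheory.Solvable

/-!
# The transfer engine

`D ≤ H` are subgroups of a finite group, `D` of odd order prime to `|H : D|`. An element `y` of
`H` is controlled if, whenever a non-trivial power `y ^ k` is conjugated into `D` by `h ∈ H`,
some element of the subgroup generated by the 2-elements of `H` centralizing `y ^ k` does the same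
as `h` modulo `D`.

`step`: if `L` is normal in `H`, contains the 2-elements, supplements `D`, and `L ⊓ D` is generated
by controlled elements and its derived group, then the transfer `L → (L ⊓ D) / (L ⊓ D)'` cuts out
a subgroup with the same properties meeting `D` in `(L ⊓ D)'`.
-/

set_option autoImplicit false
set_option linter.style.haveILetI false

namespace CfsgLib.Bender.Transfer

open Subgroup
open scoped commutatorElement

variable {G : Type*} [Group G]

/-- The subgroup generated by the 2-elements of `H`. -/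
def twoGen (H : Subgroup G) : Subgroup G :=
  closure {g : G | g ∈ H ∧ ∃ j : ℕ, g ^ 2 ^ j = 1}

/-- The centralizer in `twoGen H` of every non-trivial power of `y` lying in a conjugate of `D`
is transitive on these conjugates. -/
def Controlled (H D : Subgroup G) (y : G) : Prop :=
  ∀ k : ℕ, ∀ h ∈ H, y ^ k ≠ 1 → h⁻¹ * y ^ k * h ∈ D →
    ∃ c ∈ twoGen H, Commute c (y ^ k) ∧ c⁻¹ * h ∈ D

theorem twoGen_le (H : Subgroup G) : twoGen H ≤ H :=
  (closure_le _).2 fun _ h => h.1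

theorem mem_twoGen {H : Subgroup G} {g : G} (hg : g ∈ H) (h : ∃ j : ℕ, g ^ 2 ^ j = 1) :
    g ∈ twoGen H :=
  subset_closure ⟨hg, h⟩

theorem invol_mem_twoGen {H : Subgroup G} {g : G} (hg : g ∈ H) (h : orderOf g = 2) :
    g ∈ twoGen H :=
  mem_twoGen hg ⟨1, by rw [pow_one, ← h, pow_orderOf_eq_one]⟩

theorem conj_mem_twoGen {H : Subgroup G} {h g : G} (hh : h ∈ H) (hg : g ∈ twoGen H) :
    h * g * h⁻¹ ∈ twoGen H := by
  have : (twoGen H).map (MulAut.conj h).toMonoidHom ≤ twoGen H := by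
    rw [twoGen, MonoidHom.map_closure, closure_le]
    rintro _ ⟨x, ⟨hx, j, hj⟩, rfl⟩
    refine subset_closure ⟨H.mul_mem (H.mul_mem hh hx) (H.inv_mem hh), j, ?_⟩
    show (h * x * h⁻¹) ^ 2 ^ j = 1
    rw [conj_pow, hj, mul_one, mul_inv_cancel]
  exact this ⟨g, hg, rfl⟩

/-- Being controlled is invariant under conjugation by `D`. -/
theorem Controlled.conj {H D : Subgroup G} (hDH : D ≤ H) {y d : G} (hd : d ∈ D)
    (hy : Controlled H D y) : Controlled H D (d * y * d⁻¹) := by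
  intro k h hh hne hk
  rw [conj_pow] at hne hk ⊢
  obtain ⟨c, hc, hcy, hcd⟩ := hy k (d⁻¹ * h) (H.mul_mem (H.inv_mem (hDH hd)) hh)
    (fun e => hne (by rw [e, mul_one, mul_inv_cancel])) (by
      have e : (d⁻¹ * h)⁻¹ * y ^ k * (d⁻¹ * h) = h⁻¹ * (d * y ^ k * d⁻¹) * h := by group
      rwa [e])
  refine ⟨d * c * d⁻¹, conj_mem_twoGen (hDH hd) hc, ?_, ?_⟩
  · exact hcy.map (MulAut.conj d).toMonoidHom
  · have e : (d * c * d⁻¹)⁻¹ * h = d * (c⁻¹ * (d⁻¹ * h)) := by group
    rw [e]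
    exact D.mul_mem hd hcd

/-- If `H = L * D` then `|L : L ⊓ D| = |H : D|`. -/
theorem relIndex_eq_of_sup {H D L : Subgroup G} (hLH : L ≤ H) (hDH : D ≤ H)
    (hnorm : H ≤ normalizer (L : Set G)) (hsup : H ≤ L ⊔ D) : D.relIndex L = D.relIndex H := by
  refine Nat.card_congr (Equiv.ofBijective (Subgroup.quotientSubgroupOfEmbeddingOfLE D hLH)
    ⟨(Subgroup.quotientSubgroupOfEmbeddingOfLE D hLH).injective, fun q => ?_⟩)
  induction q using QuotientGroup.induction_on with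
  | H x =>
    obtain ⟨h, hh⟩ := x
    have h1 : h ∈ ((D ⊔ L : Subgroup G) : Set G) := by
      rw [sup_comm]; exact hsup hh
    rw [coe_mul_of_left_le_normalizer_right D L (hDH.trans hnorm)] at h1
    obtain ⟨d, hd, l, hl, rfl⟩ := h1
    have hl' : d * l * d⁻¹ ∈ L := (mem_normalizer_iff.1 (hnorm (hDH hd)) l).1 hl
    refine ⟨QuotientGroup.mk ⟨d * l * d⁻¹, hl'⟩, ?_⟩
    rw [quotientSubgroupOfEmbeddingOfLE_apply_mk, QuotientGroup.eq, mem_subgroupOf]
    show (d * l * d⁻¹)⁻¹ * (d * l) ∈ D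
    rw [show (d * l * d⁻¹)⁻¹ * (d * l) = d by group]
    exact hd

/-- One step of the engine; only `|H : D|` and `|L ⊓ D : (L ⊓ D)'|` need be coprime. -/
theorem step_of_coprime_layer [Finite G] {H D L : Subgroup G} (hDH : D ≤ H)
    (hDodd : Odd (Nat.card D))
    (hcop : (D.relIndex H).Coprime (⁅L ⊓ D, L ⊓ D⁆.relIndex (L ⊓ D))) (hLH : L ≤ H)
    (hnorm : H ≤ normalizer (L : Set G)) (htwo : twoGen H ≤ L) (hsup : H ≤ L ⊔ D)
    (hgen : L ⊓ D ≤ closure ({y : G | y ∈ L ⊓ D ∧ Controlled H D y} ∪ (⁅L ⊓ D, L ⊓ D⁆ : Subgroup G))) :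
    ∃ L' : Subgroup G, L' ≤ H ∧ H ≤ normalizer (L' : Set G) ∧ twoGen H ≤ L' ∧ H ≤ L' ⊔ D ∧
      L' ⊓ D = ⁅L ⊓ D, L ⊓ D⁆ := by
  classical
  set E := (L ⊓ D).subgroupOf L with hEdef
  have hEmap : E.map L.subtype = L ⊓ D := by
    rw [hEdef, map_subgroupOf_eq_of_le inf_le_left]
  have hEmem : ∀ x : L, x ∈ E ↔ (x : G) ∈ D := fun x => by
    rw [hEdef, mem_subgroupOf, mem_inf]
    exact ⟨And.right, fun h => ⟨x.2, h⟩⟩
  have hEcom : (commutator E).map E.subtype = ⁅E, E⁆ := map_subtype_commutator E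
  have hEcomG : ⁅E, E⁆.map L.subtype = ⁅L ⊓ D, L ⊓ D⁆ := by rw [map_commutator, hEmap]
  -- the target
  set φ : E →* Abelianization E := Abelianization.of with hφdef
  have hcardE : Nat.card E ∣ Nat.card D :=
    (Nat.card_congr (subgroupOfEquivOfLe (inf_le_left : L ⊓ D ≤ L)).toEquiv).symm ▸
      card_dvd_of_le inf_le_right
  have hcardW : Nat.card (Abelianization E) ∣ Nat.card D :=
    (card_dvd_of_surjective φ (QuotientGroup.mk'_surjective _)).trans hcardE
  set n := E.index with hndef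
  have hn : n = D.relIndex H := by
    rw [hndef, hEdef, inf_comm, inf_subgroupOf_right]
    exact relIndex_eq_of_sup hLH hDH hnorm hsup
  have hcardW' : Nat.card (Abelianization E) = ⁅L ⊓ D, L ⊓ D⁆.relIndex (L ⊓ D) :=
    calc Nat.card (Abelianization E) = (commutator E).index := rfl
      _ = (commutator E).relIndex ⊤ := (relIndex_top_right _).symm
      _ = ((commutator E).map E.subtype).relIndex ((⊤ : Subgroup E).map E.subtype) :=
        (relIndex_map_map_of_injective _ _ E.subtype_injective).symm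
      _ = ⁅E, E⁆.relIndex E := by rw [hEcom, ← MonoidHom.range_eq_map, range_subtype]
      _ = (⁅E, E⁆.map L.subtype).relIndex (E.map L.subtype) :=
        (relIndex_map_map_of_injective _ _ L.subtype_injective).symm
      _ = _ := by rw [hEcomG, hEmap]
  have hnW : (Nat.card (Abelianization E)).Coprime n := by
    rw [hcardW', hn]
    exact hcop.symm
  letI : Fintype (Abelianization E) := Fintype.ofFinite _
  set V : L →* Abelianization E := MonoidHom.transfer φ with hVdef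
  -- the transfer of a controlled element
  have hctrl : ∀ y : E, Controlled H D ((y : L) : G) → V y = φ y ^ n := by
    intro y hy
    letI : Fintype (Quotient (MulAction.orbitRel (zpowers (y : L)) (L ⧸ E))) := Fintype.ofFinite _
    rw [hVdef, MonoidHom.transfer_eq_prod_quotient_orbitRel_zpowers_quot, hndef,
      index_eq_sum_minimalPeriod E (y : L), ← Finset.prod_pow_eq_pow_sum]
    refine Finset.prod_congr rfl fun q _ => ?_
    set p := Function.minimalPeriod ((y : L) • ·) q.out with hp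
    set g₀ : L := q.out.out with hg₀
    have hmem : g₀⁻¹ * (y : L) ^ p * g₀ ∈ E :=
      QuotientGroup.out_conj_pow_minimalPeriod_mem E (y : L) q.out
    show φ ⟨g₀⁻¹ * (y : L) ^ p * g₀, hmem⟩ = φ y ^ p
    rcases eq_or_ne (((y : L) : G) ^ p) 1 with h1 | h1
    · have e1 : y ^ p = 1 := Subtype.ext (Subtype.ext (by simpa using h1))
      have e2 : (⟨g₀⁻¹ * (y : L) ^ p * g₀, hmem⟩ : E) = 1 := by
        refine Subtype.ext ?_
        show g₀⁻¹ * (y : L) ^ p * g₀ = 1
        rw [← coe_pow, e1, coe_one, mul_one, inv_mul_cancel]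
      rw [e2, ← map_pow, e1]
    · obtain ⟨c, hc, hcy, hcd⟩ := hy p (g₀ : G) (hLH g₀.2) h1 ((hEmem _).1 hmem)
      have he : (⟨c⁻¹ * (g₀ : G), L.mul_mem (L.inv_mem (htwo hc)) g₀.2⟩ : L) ∈ E := (hEmem _).2 hcd
      set e : E := ⟨_, he⟩ with hedef
      have key : (⟨g₀⁻¹ * (y : L) ^ p * g₀, hmem⟩ : E) = e⁻¹ * y ^ p * e := by
        refine Subtype.ext (Subtype.ext ?_)
        simp only [hedef, coe_mul, coe_inv, coe_pow]
        rw [mul_inv_rev, inv_inv]
        calc (g₀ : G)⁻¹ * ((y : L) : G) ^ p * g₀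
            = (g₀ : G)⁻¹ * (((y : L) : G) ^ p * c) * (c⁻¹ * g₀) := by group
          _ = (g₀ : G)⁻¹ * c * ((y : L) : G) ^ p * (c⁻¹ * g₀) := by rw [← hcy.eq]; group
      rw [key, map_mul, map_mul, map_inv, mul_comm (φ e)⁻¹, inv_mul_cancel_right, map_pow]
  -- hence on all of `E`
  have hall : ∀ x : E, V x = φ x ^ n := by
    set Q : Subgroup E :=
      MonoidHom.eqLocus (V.comp E.subtype) ((powMonoidHom n).comp φ) with hQdef
    have hQmem : ∀ x : E, x ∈ Q ↔ V x = φ x ^ n := fun x => Iff.rfl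
    suffices h : L ⊓ D ≤ (Q.map E.subtype).map L.subtype by
      intro x
      obtain ⟨z, ⟨z', hz', rfl⟩, hz⟩ :=
        h (show ((x : L) : G) ∈ L ⊓ D from ⟨(x : L).2, (hEmem _).1 x.2⟩)
      obtain rfl : z' = x := Subtype.ext (Subtype.ext hz)
      exact (hQmem z').1 hz'
    refine hgen.trans ((closure_le _).2 (Set.union_subset ?_ ?_))
    · rintro y ⟨hy, hyc⟩
      exact ⟨⟨y, hy.1⟩, ⟨⟨⟨y, hy.1⟩, (hEmem _).2 hy.2⟩, (hQmem _).2 (hctrl _ hyc), rfl⟩, rfl⟩
    · have hc : commutator E ≤ Q := by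
        intro x hx
        rw [hQmem]
        have h1 : φ x = 1 := Abelianization.commutator_subset_ker φ hx
        have h2 : V.comp E.subtype x = 1 := Abelianization.commutator_subset_ker _ hx
        rw [h1, one_pow]
        exact h2
      intro y hy
      rw [← hEcomG, ← hEcom] at hy
      exact map_mono (map_mono hc) hy
  -- the core of the kernel
  set K : Subgroup G := V.ker.map L.subtype with hKdef
  set L' : Subgroup G := ((K.subgroupOf H).normalCore).map H.subtype with hL'def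
  have hKmem : ∀ x : L, (x : G) ∈ K ↔ V x = 1 := fun x => by
    rw [hKdef]
    exact ⟨fun ⟨z, hz, e⟩ => Subtype.ext e ▸ hz, fun h => ⟨x, h, rfl⟩⟩
  have hL'mem : ∀ g : G, g ∈ L' ↔ g ∈ H ∧ ∀ h ∈ H, h * g * h⁻¹ ∈ K := by
    intro g
    rw [hL'def]
    constructor
    · rintro ⟨z, hz, rfl⟩
      exact ⟨z.2, fun h hh => hz ⟨h, hh⟩⟩
    · rintro ⟨hg, hall'⟩
      exact ⟨⟨g, hg⟩, fun b => hall' b b.2, rfl⟩
  have hL'H : L' ≤ H := map_subtype_le _
  have hL'K : L' ≤ K := fun g hg => by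
    simpa using ((hL'mem g).1 hg).2 1 H.one_mem
  have hL'L : L' ≤ L := hL'K.trans (map_subtype_le _)
  have hL'norm : H ≤ normalizer (L' : Set G) := by
    refine (normal_subgroupOf_iff_le_normalizer hL'H).1 ?_
    rw [hL'def, subgroupOf, comap_map_eq_self_of_injective H.subtype_injective]
    exact normalCore_normal _
  have hcomL : ⁅L, L⁆ ≤ L' := by
    intro g hg
    have hgL : g ∈ L := (commutator_le.2 fun a ha b hb => by
      rw [commutatorElement_def]
      exact L.mul_mem (L.mul_mem (L.mul_mem ha hb) (L.inv_mem ha)) (L.inv_mem hb)) hg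
    refine (hL'mem g).2 ⟨hLH hgL, fun h hh => ?_⟩
    have h1 : h * g * h⁻¹ ∈ ⁅L, L⁆ := by
      have h2 : (MulAut.conj h).toMonoidHom g ∈ ⁅L, L⁆.map (MulAut.conj h).toMonoidHom :=
        ⟨g, hg, rfl⟩
      rw [map_commutator] at h2
      have hmap : L.map (MulAut.conj h).toMonoidHom ≤ L := by
        rintro _ ⟨x, hx, rfl⟩
        exact (mem_normalizer_iff.1 (hnorm hh) x).1 hx
      exact commutator_mono hmap hmap h2
    have h3 : ⁅L, L⁆ ≤ K := by
      rw [← map_subtype_commutator]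
      exact map_mono (Abelianization.commutator_subset_ker V)
    exact h3 h1
  refine ⟨L', hL'H, hL'norm, ?_, ?_, ?_⟩
  · -- the 2-elements
    refine (closure_le _).2 fun g hg => (hL'mem g).2 ⟨hg.1, fun h hh => ?_⟩
    obtain ⟨j, hj⟩ := hg.2
    have hgj : (h * g * h⁻¹) ^ 2 ^ j = 1 := by rw [conj_pow, hj, mul_one, mul_inv_cancel]
    have hgH : h * g * h⁻¹ ∈ H := H.mul_mem (H.mul_mem hh hg.1) (H.inv_mem hh)
    have hgL : h * g * h⁻¹ ∈ L := htwo (mem_twoGen hgH ⟨j, hgj⟩)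
    refine (hKmem ⟨_, hgL⟩).2 (orderOf_eq_one_iff.1 ?_)
    have h1 : orderOf (V ⟨_, hgL⟩) ∣ 2 ^ j := orderOf_dvd_of_pow_eq_one (by
      rw [← map_pow, show (⟨h * g * h⁻¹, hgL⟩ : L) ^ 2 ^ j = 1 from Subtype.ext (by simpa using hgj),
        map_one])
    have h2 : (2 ^ j).Coprime (Nat.card (Abelianization E)) :=
      ((Nat.coprime_two_left.2 hDodd).coprime_dvd_right hcardW).pow_left j
    exact Nat.eq_one_of_dvd_coprimes h2 h1 (orderOf_dvd_natCard _)
  · -- the supplement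
    set S : Subgroup L := (L' ⊔ (L ⊓ D)).subgroupOf L with hSdef
    have hES : E ≤ S := fun x hx => mem_subgroupOf.2 (mem_sup_right (mem_subgroupOf.1 hx))
    haveI : S.Normal := ⟨fun x hx g => by
      have h1 : ⁅g, x⁆ ∈ S := mem_subgroupOf.2 (mem_sup_left (hcomL (by
        have h2 : ((⁅g, x⁆ : L) : G) = ⁅(g : G), (x : G)⁆ := rfl
        rw [h2]
        exact commutator_mem_commutator g.2 x.2)))
      have e : g * x * g⁻¹ = ⁅g, x⁆ * x := by rw [commutatorElement_def]; group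
      rw [e]
      exact S.mul_mem h1 hx⟩
    have key : L ≤ L' ⊔ (L ⊓ D) := by
      intro l hl
      set x : L := ⟨l, hl⟩
      have h1 : x ^ n ∈ S := by
        obtain ⟨t, ht⟩ := index_dvd_of_le hES
        rw [hndef, ht, pow_mul]
        exact S.pow_mem (S.pow_index_mem x) t
      have h2 : x ^ Nat.card (Abelianization E) ∈ S := by
        refine mem_subgroupOf.2 (mem_sup_left ((hL'mem _).2 ⟨hLH (SetLike.coe_mem _), fun h hh => ?_⟩))
        have hx : h * l * h⁻¹ ∈ L := (mem_normalizer_iff.1 (hnorm hh) l).1 hl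
        have e : h * ((x ^ Nat.card (Abelianization E) : L) : G) * h⁻¹ =
            (((⟨_, hx⟩ : L) ^ Nat.card (Abelianization E) : L) : G) := by
          rw [coe_pow, coe_pow]
          exact (conj_pow).symm
        rw [e, hKmem, map_pow, pow_card_eq_one']
      have h3 : (QuotientGroup.mk x : L ⧸ S) = 1 := by
        have h4 : (QuotientGroup.mk x : L ⧸ S) ^ Nat.gcd (Nat.card (Abelianization E)) n = 1 :=
          pow_gcd_eq_one.2 ⟨by rw [← QuotientGroup.mk_pow, QuotientGroup.eq_one_iff]; exact h2,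
            by rw [← QuotientGroup.mk_pow, QuotientGroup.eq_one_iff]; exact h1⟩
        rwa [Nat.Coprime.gcd_eq_one hnW, pow_one] at h4
      exact mem_subgroupOf.1 ((QuotientGroup.eq_one_iff x).1 h3)
    exact hsup.trans (sup_le (key.trans (sup_le le_sup_left (inf_le_right.trans le_sup_right)))
      le_sup_right)
  · -- the intersection with `D`
    refine le_antisymm (fun g hg => ?_) (le_inf ((commutator_mono inf_le_left inf_le_left).trans hcomL)
      (commutator_le.2 fun a ha b hb => by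
        rw [commutatorElement_def]
        exact D.mul_mem (D.mul_mem (D.mul_mem ha.2 hb.2) (D.inv_mem ha.2)) (D.inv_mem hb.2)))
    obtain ⟨hg1, hg2⟩ := hg
    set x : E := ⟨⟨g, hL'L hg1⟩, (hEmem _).2 hg2⟩
    have h1 : φ x ^ n = 1 := by
      rw [← hall x]
      exact (hKmem _).1 (hL'K hg1)
    have h2 : φ x = 1 := by
      have h3 : φ x ^ Nat.gcd (Nat.card (Abelianization E)) n = 1 :=
        pow_gcd_eq_one.2 ⟨pow_card_eq_one', h1⟩
      rwa [Nat.Coprime.gcd_eq_one hnW, pow_one] at h3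
    have h4 : x ∈ commutator E := (QuotientGroup.eq_one_iff x).1 h2
    rw [← hEcomG, ← hEcom]
    exact ⟨(x : L), ⟨x, h4, rfl⟩, rfl⟩

/-- One step of the engine. -/
theorem step [Finite G] {H D L : Subgroup G} (hDH : D ≤ H) (hDodd : Odd (Nat.card D))
    (hcop : (D.relIndex H).Coprime (Nat.card D)) (hLH : L ≤ H)
    (hnorm : H ≤ normalizer (L : Set G)) (htwo : twoGen H ≤ L) (hsup : H ≤ L ⊔ D)
    (hgen : L ⊓ D ≤ closure ({y : G | y ∈ L ⊓ D ∧ Controlled H D y} ∪ (⁅L ⊓ D, L ⊓ D⁆ : Subgroup G))) :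
    ∃ L' : Subgroup G, L' ≤ H ∧ H ≤ normalizer (L' : Set G) ∧ twoGen H ≤ L' ∧ H ≤ L' ⊔ D ∧
      L' ⊓ D = ⁅L ⊓ D, L ⊓ D⁆ :=
  step_of_coprime_layer hDH hDodd
    (hcop.coprime_dvd_right ((relIndex_dvd_card _ _).trans (card_dvd_of_le inf_le_right)))
    hLH hnorm htwo hsup hgen

/-- If a subgroup `U` containing `E'` and the elements of `E` inverted by `w` is normalized by an
element `f` of odd order inverted by `w` and fixed point free on `E / E'`, then `E ≤ U`. -/
theorem le_of_fpf [Finite G] {E U : Subgroup G} {w f : G} (hw : w ∈ normalizer (E : Set G))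
    (hw2 : w * w = 1) (hf : f ∈ normalizer (E : Set G)) (hfU : f ∈ normalizer (U : Set G))
    (hfodd : Odd (orderOf f)) (hinv : w * f * w⁻¹ = f⁻¹)
    (hfpf : ∀ x ∈ E, f * x * f⁻¹ * x⁻¹ ∈ ⁅E, E⁆ → x ∈ ⁅E, E⁆)
    (hcom : ⁅E, E⁆ ≤ U) (hS : ∀ y ∈ E, w * y * w⁻¹ = y⁻¹ → y ∈ U) : E ≤ U := by
  have hwinv : w⁻¹ = w := inv_eq_of_mul_eq_one_right hw2
  have hcW : ∀ y ∈ E, y * (w * y * w⁻¹)⁻¹ ∈ U := fun y hy => hS _
    (E.mul_mem hy (E.inv_mem ((mem_normalizer_iff.1 hw y).1 hy))) (by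
      calc w * (y * (w * y * w⁻¹)⁻¹) * w⁻¹ = w * y * w⁻¹ * (w * w) * y⁻¹ * (w⁻¹ * w⁻¹) := by group
        _ = w * y * w⁻¹ * y⁻¹ := by rw [hwinv, hw2, mul_one, mul_one]
        _ = _ := by group)
  have htrans : ∀ a b c : G, a * b⁻¹ ∈ U → b * c⁻¹ ∈ U → a * c⁻¹ ∈ U := fun a b c h1 h2 => by
    have := U.mul_mem h1 h2
    rwa [← mul_assoc, inv_mul_cancel_right] at this
  have hsymm : ∀ a b : G, a * b⁻¹ ∈ U → b * a⁻¹ ∈ U := fun a b h => by
    have := U.inv_mem h
    rwa [mul_inv_rev, inv_inv] at this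
  have hconj : ∀ g ∈ normalizer (U : Set G), ∀ a b : G, a * b⁻¹ ∈ U →
      (g * a * g⁻¹) * (g * b * g⁻¹)⁻¹ ∈ U := fun g hg a b h => by
    rw [show (g * a * g⁻¹) * (g * b * g⁻¹)⁻¹ = g * (a * b⁻¹) * g⁻¹ by group]
    exact (mem_normalizer_iff.1 hg _).1 h
  -- the square of `f` is trivial modulo `U`
  have hsq : ∀ y ∈ E, (f ^ 2 * y * (f ^ 2)⁻¹) * y⁻¹ ∈ U := by
    intro y hy
    have h1 : f * y * f⁻¹ * (w * (f * y * f⁻¹) * w⁻¹)⁻¹ ∈ U :=
      hcW _ ((mem_normalizer_iff.1 hf y).1 hy)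
    have e : w * (f * y * f⁻¹) * w⁻¹ = f⁻¹ * (w * y * w⁻¹) * f := by
      calc w * (f * y * f⁻¹) * w⁻¹ = (w * f * w⁻¹) * (w * y * w⁻¹) * (w * f * w⁻¹)⁻¹ := by group
        _ = _ := by rw [hinv, inv_inv]
    rw [e] at h1
    have h2 : (f⁻¹ * (w * y * w⁻¹) * f) * (f⁻¹ * y * f)⁻¹ ∈ U := by
      have := hconj f⁻¹ ((normalizer (U : Set G)).inv_mem hfU) _ _ (hsymm _ _ (hcW y hy))
      rwa [inv_inv] at this
    have h3 := hconj f hfU _ _ (htrans _ _ _ h1 h2)
    rw [show f * (f * y * f⁻¹) * f⁻¹ = f ^ 2 * y * (f ^ 2)⁻¹ by rw [pow_two]; group,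
      show f * (f⁻¹ * y * f) * f⁻¹ = y by group] at h3
    exact h3
  have hpow : ∀ k : ℕ, ∀ y ∈ E, ((f ^ 2) ^ k * y * ((f ^ 2) ^ k)⁻¹) * y⁻¹ ∈ U := by
    intro k
    induction k with
    | zero => intro y _; simp
    | succ k ih =>
      intro y hy
      refine htrans _ ((f ^ 2) ^ k * y * ((f ^ 2) ^ k)⁻¹) _ ?_ (ih y hy)
      have := hsq _ ((mem_normalizer_iff.1 (pow_mem (pow_mem hf 2) k) y).1 hy)
      rwa [show f ^ 2 * ((f ^ 2) ^ k * y * ((f ^ 2) ^ k)⁻¹) * (f ^ 2)⁻¹ =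
        (f ^ 2) ^ (k + 1) * y * ((f ^ 2) ^ (k + 1))⁻¹ by rw [pow_succ']; group] at this
  have hfy : ∀ y ∈ E, (f * y * f⁻¹) * y⁻¹ ∈ U := by
    intro y hy
    obtain ⟨m, hm⟩ := hfodd
    have e : (f ^ 2) ^ (m + 1) = f := by
      rw [← pow_mul, show 2 * (m + 1) = orderOf f + 1 by omega, pow_succ, pow_orderOf_eq_one,
        one_mul]
    have := hpow (m + 1) y hy
    rwa [e] at this
  -- `f` is onto on `E / E'`
  let α : E →* E := ((MulAut.conj f).toMonoidHom.comp E.subtype).codRestrict E fun y =>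
    (mem_normalizer_iff.1 hf y).1 y.2
  have hEcom : (commutator E).map E.subtype = ⁅E, E⁆ := map_subtype_commutator E
  have hmem : ∀ z : E, Abelianization.of z = 1 ↔ (z : G) ∈ ⁅E, E⁆ := fun z => by
    rw [← hEcom]
    exact ⟨fun h => ⟨z, (QuotientGroup.eq_one_iff z).1 h, rfl⟩,
      fun ⟨z', hz', e⟩ => (QuotientGroup.eq_one_iff z).2 (Subtype.ext e ▸ hz')⟩
  set θ : Abelianization E →* Abelianization E := Abelianization.map α / MonoidHom.id _ with hθ
  have hθof : ∀ z : E, θ (Abelianization.of z) = Abelianization.of (α z * z⁻¹) := fun z => by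
    rw [map_mul, map_inv, ← div_eq_mul_inv, hθ]
    rfl
  have hinj : Function.Injective θ := by
    refine (injective_iff_map_eq_one θ).2 fun a => ?_
    induction a using QuotientGroup.induction_on with
    | H z =>
      intro hz
      refine (hmem z).2 (hfpf z z.2 ?_)
      exact (hmem (α z * z⁻¹)).1 ((hθof z).symm.trans hz)
  intro x hx
  obtain ⟨a, ha⟩ := Finite.injective_iff_surjective.1 hinj (Abelianization.of ⟨x, hx⟩)
  induction a using QuotientGroup.induction_on with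
  | H z =>
    have h1 : Abelianization.of ((α z * z⁻¹)⁻¹ * ⟨x, hx⟩) = 1 := by
      rw [map_mul, map_inv, ← hθof]
      exact inv_mul_eq_one.2 ha
    have h2 : ((α z * z⁻¹)⁻¹ * ⟨x, hx⟩ : E).1 ∈ U := hcom ((hmem _).1 h1)
    have h3 : (f * (z : G) * f⁻¹) * (z : G)⁻¹ ∈ U := hfy z z.2
    have h4 := U.mul_mem h3 h2
    simpa [α, mul_assoc] using h4

/-- The elements of `E` inverted by `w`, their `D`-conjugates and `E'` generate `E`, if some
`f ∈ D` of odd order inverted by `w` is fixed point free on `E / E'`. -/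
theorem gen_of_fpf [Finite G] {E D : Subgroup G} (hD : D ≤ normalizer (E : Set G)) {w f : G}
    (hw : w ∈ normalizer (E : Set G)) (hw2 : w * w = 1) (hf : f ∈ D)
    (hfodd : Odd (orderOf f)) (hinv : w * f * w⁻¹ = f⁻¹)
    (hfpf : ∀ x ∈ E, f * x * f⁻¹ * x⁻¹ ∈ ⁅E, E⁆ → x ∈ ⁅E, E⁆) :
    E ≤ closure ({z : G | ∃ d ∈ D, ∃ y ∈ E, w * y * w⁻¹ = y⁻¹ ∧ z = d * y * d⁻¹} ∪ (⁅E, E⁆ : Subgroup G)) := by
  set T := ({z : G | ∃ d ∈ D, ∃ y ∈ E, w * y * w⁻¹ = y⁻¹ ∧ z = d * y * d⁻¹} ∪ (⁅E, E⁆ : Subgroup G) : Set G)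
  refine le_of_fpf hw hw2 (hD hf) ?_ hfodd hinv hfpf
    (fun z hz => subset_closure (Or.inr hz))
    fun y hy hwy => subset_closure (Or.inl ⟨1, D.one_mem, y, hy, hwy, by simp⟩)
  have hT : ∀ d ∈ D, ∀ z ∈ T, d * z * d⁻¹ ∈ T := by
    rintro d hd z (⟨d', hd', y, hy, hwy, rfl⟩ | hz)
    · exact Or.inl ⟨d * d', D.mul_mem hd hd', y, hy, hwy, by group⟩
    · refine Or.inr ?_
      have h2 : (MulAut.conj d).toMonoidHom z ∈ ⁅E, E⁆.map (MulAut.conj d).toMonoidHom :=
        ⟨z, hz, rfl⟩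
      rw [map_commutator] at h2
      have hmap : E.map (MulAut.conj d).toMonoidHom ≤ E := by
        rintro _ ⟨x, hx, rfl⟩
        exact (mem_normalizer_iff.1 (hD hd) x).1 hx
      exact commutator_mono hmap hmap h2
  have hcl : ∀ d ∈ D, ∀ z ∈ closure T, d * z * d⁻¹ ∈ closure T := by
    intro d hd z hz
    have : (closure T).map (MulAut.conj d).toMonoidHom ≤ closure T := by
      rw [MonoidHom.map_closure, closure_le]
      rintro _ ⟨x, hx, rfl⟩
      exact subset_closure (hT d hd x hx)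
    exact this ⟨z, hz, rfl⟩
  exact mem_normalizer_iff.2 fun z => ⟨hcl f hf z, fun h => by
    have := hcl f⁻¹ (D.inv_mem hf) _ h
    simpa [mul_assoc] using this⟩

end CfsgLib.Bender.Transfer
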