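import Cfsg.Agent.Lib.Bender.Transfer.Engine
import Cfsg.Agent.Lib.PGroup.FixedPointFree
import Cfsg.Prelude.Def_CaseTheorems

/-!
# The transfer engine along the derived series, and the endgame

For a solvable `D` whose derived layers are generated by controlled elements there is a normal
subgroup `K` of `H` containing the 2-elements, meeting `D` trivially, with `H = K * D`
(`exists_complement`). If moreover an element of prime order of `D` has its centralizer in `H`
inside `D`, `O(H) = 1` and the involutions of `H` are conjugate, then `K` is a 2-group and the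
involutions of `H` commute (`closed_of_complement`).
-/

set_option autoImplicit false
set_option linter.style.haveILetI false

namespace CfsgLib.Bender.Transfer

open Subgroup
open scoped commutatorElement

variable {G : Type*} [Group G]

/-- The derived series of `D`, as subgroups of `G`. -/
def layer (D : Subgroup G) (i : ℕ) : Subgroup G :=
  (derivedSeries D i).map D.subtype

theorem layer_zero (D : Subgroup G) : layer D 0 = D := by
  rw [layer, derivedSeries_zero, ← MonoidHom.range_eq_map, range_subtype]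

theorem layer_succ (D : Subgroup G) (i : ℕ) :
    layer D (i + 1) = ⁅layer D i, layer D i⁆ := by
  rw [layer, derivedSeries_succ, map_commutator]; rfl

theorem layer_le (D : Subgroup G) (i : ℕ) : layer D i ≤ D := map_subtype_le _

/-- `D` normalizes its derived series. -/
theorem le_normalizer_layer (D : Subgroup G) (i : ℕ) : D ≤ normalizer (layer D i : Set G) := by
  intro d hd
  refine mem_normalizer_iff.2 fun z => ⟨?_, ?_⟩
  · rintro ⟨x, hx, rfl⟩
    exact ⟨⟨d, hd⟩ * x * ⟨d, hd⟩⁻¹, (derivedSeries_normal D i).conj_mem x hx _, rfl⟩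
  · rintro ⟨x, hx, e⟩
    refine ⟨⟨d, hd⟩⁻¹ * x * ⟨d, hd⟩, by
      simpa using (derivedSeries_normal D i).conj_mem x hx ⟨d, hd⟩⁻¹, ?_⟩
    simp only [coe_subtype] at e
    simp only [coe_subtype, coe_mul, coe_inv, e]
    group

/-- A subgroup generated by `D`-conjugates of inverted elements and its derived group is generated
by controlled elements and its derived group, if inverted elements are controlled. -/
theorem le_closure_controlled {H D E : Subgroup G} (hDH : D ≤ H)
    (hDE : D ≤ normalizer (E : Set G)) {w : G}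
    (hE : E ≤ closure ({z : G | ∃ d ∈ D, ∃ y ∈ E, w * y * w⁻¹ = y⁻¹ ∧ z = d * y * d⁻¹} ∪
      (⁅E, E⁆ : Subgroup G)))
    (hctrl : ∀ y ∈ E, w * y * w⁻¹ = y⁻¹ → Controlled H D y) :
    E ≤ closure ({y : G | y ∈ E ∧ Controlled H D y} ∪ (⁅E, E⁆ : Subgroup G)) := by
  refine hE.trans ((closure_le _).2 ?_)
  rintro z (⟨d, hd, y, hy, hwy, rfl⟩ | hz)
  · exact subset_closure (Or.inl
      ⟨(mem_normalizer_iff.1 (hDE hd) y).1 hy, (hctrl y hy hwy).conj hDH hd⟩)
  · exact subset_closure (Or.inr hz)

variable [Finite G]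

/-- A normal complement of `D` in `H` containing the 2-elements; layerwise coprimality. -/
theorem exists_complement_of_coprime_layer {H D : Subgroup G} (hDH : D ≤ H)
    (hDodd : Odd (Nat.card D))
    (hcop : ∀ i, (D.relIndex H).Coprime ((layer D (i + 1)).relIndex (layer D i)))
    (hsolv : Group.IsSolvable D)
    (hgen : ∀ i, layer D i ≤
      closure ({y : G | y ∈ layer D i ∧ Controlled H D y} ∪ (layer D (i + 1) : Set G))) :
    ∃ K : Subgroup G, K ≤ H ∧ H ≤ normalizer (K : Set G) ∧ twoGen H ≤ K ∧ K ⊓ D = ⊥ ∧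
      H ≤ K ⊔ D := by
  have key : ∀ i, ∃ L : Subgroup G, L ≤ H ∧ H ≤ normalizer (L : Set G) ∧ twoGen H ≤ L ∧
      H ≤ L ⊔ D ∧ L ⊓ D = layer D i := by
    intro i
    induction i with
    | zero =>
      exact ⟨H, le_rfl, le_normalizer, twoGen_le H, le_sup_left, by
        rw [layer_zero, inf_eq_right.2 hDH]⟩
    | succ i ih =>
      obtain ⟨L, h1, h2, h3, h4, h5⟩ := ih
      have hg := hgen i
      rw [layer_succ, ← h5] at hg
      have hc := hcop i
      rw [layer_succ, ← h5] at hc
      obtain ⟨L', h1', h2', h3', h4', h5'⟩ := step_of_coprime_layer hDH hDodd hc h1 h2 h3 h4 hg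
      exact ⟨L', h1', h2', h3', h4', by rw [h5', layer_succ, h5]⟩
  obtain ⟨n, hn⟩ := hsolv.solvable
  obtain ⟨K, h1, h2, h3, h4, h5⟩ := key n
  exact ⟨K, h1, h2, h3, by rw [h5, layer, hn, Subgroup.map_bot], h4⟩

/-- A normal complement of `D` in `H` containing the 2-elements. -/
theorem exists_complement {H D : Subgroup G} (hDH : D ≤ H) (hDodd : Odd (Nat.card D))
    (hcop : (D.relIndex H).Coprime (Nat.card D)) (hsolv : Group.IsSolvable D)
    (hgen : ∀ i, layer D i ≤
      closure ({y : G | y ∈ layer D i ∧ Controlled H D y} ∪ (layer D (i + 1) : Set G))) :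
    ∃ K : Subgroup G, K ≤ H ∧ H ≤ normalizer (K : Set G) ∧ twoGen H ≤ K ∧ K ⊓ D = ⊥ ∧
      H ≤ K ⊔ D :=
  exists_complement_of_coprime_layer hDH hDodd
    (fun i => hcop.coprime_dvd_right
      ((relIndex_dvd_card _ _).trans (card_dvd_of_le (layer_le D i)))) hsolv hgen

/-- The number of cosets of `D` in `H` is the order of the complement. -/
theorem card_eq_relIndex {H D K : Subgroup G} (hDH : D ≤ H) (hKH : K ≤ H)
    (hnorm : H ≤ normalizer (K : Set G)) (hKD : K ⊓ D = ⊥) (hsup : H ≤ K ⊔ D) :
    Nat.card K = D.relIndex H := by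
  rw [← relIndex_eq_of_sup hKH hDH hnorm hsup, relIndex, ← inf_subgroupOf_right, inf_comm, hKD,
    bot_subgroupOf, index_bot]

omit [Finite G] in
theorem le_normalizer_map_of_characteristic {H K : Subgroup G} (hnorm : H ≤ normalizer (K : Set G))
    (C : Subgroup K) [hC : C.Characteristic] :
    H ≤ normalizer (C.map K.subtype : Set G) := by
  intro g hg
  rw [← CfsgLib.Coprime.conjBy_eq_self_iff]
  let e : K ≃* K := Subgroup.normalizerMonoidHom K ⟨g, hnorm hg⟩
  conv_rhs => rw [← characteristic_iff_map_eq.1 hC e]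
  rw [CfsgLib.Coprime.conjBy, Subgroup.map_map, Subgroup.map_map]
  rfl

/-- The endgame: the complement is a 2-group and the involutions of `H` commute. -/
theorem closed_of_complement {H D K : Subgroup G} (hDH : D ≤ H) (hKH : K ≤ H)
    (hnorm : H ≤ normalizer (K : Set G)) (htwo : twoGen H ≤ K) (hKD : K ⊓ D = ⊥)
    {f : G} (hfD : f ∈ D) (hfp : (orderOf f).Prime)
    (hcen : ∀ g ∈ H, Commute g f → g ∈ D) (hcore : Cfsg.oddCore H = ⊥)
    (hconj : ∀ s ∈ H, ∀ t ∈ H, orderOf s = 2 → orderOf t = 2 → ∃ h ∈ H, h * s * h⁻¹ = t) :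
    IsPGroup 2 K ∧ ∀ s ∈ H, ∀ t ∈ H, orderOf s = 2 → orderOf t = 2 → Commute s t := by
  classical
  have hN := mem_normalizer_iff.1 (hnorm (hDH hfD))
  have hN' := mem_normalizer_iff''.1 (hnorm (hDH hfD))
  let φ : K ≃* K :=
    { toFun := fun c => ⟨f * c * f⁻¹, (hN c).1 c.2⟩
      invFun := fun c => ⟨f⁻¹ * c * f, (hN' c).1 c.2⟩
      left_inv := fun c => Subtype.ext (by simp [mul_assoc])
      right_inv := fun c => Subtype.ext (by simp [mul_assoc])
      map_mul' := fun c c' => Subtype.ext (by simp [mul_assoc]) }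
  haveI hnil : Group.IsNilpotent K := by
    refine CfsgLib.PGroup.isNilpotent_of_fixedPointFree hfp K φ (fun c hc => Subtype.ext ?_)
      fun c => ?_
    · have hc' : f * (c : G) * f⁻¹ = c := congrArg Subtype.val hc
      exact (eq_bot_iff_forall _).1 hKD c
        ⟨c.2, hcen c (hKH c.2) (mul_inv_eq_iff_eq_mul.1 hc').symm⟩
    · have key : ∀ k : ℕ, ((φ^[k] c : K) : G) = f ^ k * c * (f ^ k)⁻¹ := by
        intro k
        induction k with
        | zero => simp
        | succ k ih =>
          rw [Function.iterate_succ_apply']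
          show f * _ * f⁻¹ = _
          rw [ih, pow_succ']
          group
      exact Subtype.ext (by rw [key, pow_orderOf_eq_one, one_mul, inv_one, mul_one])
  -- `K` is a 2-group
  have h2 : ∀ q : ℕ, q.Prime → q ∣ Nat.card K → q = 2 := by
    intro q hq hqK
    by_contra hne
    haveI := Fact.mk hq
    obtain ⟨P⟩ := (inferInstance : Nonempty (Sylow q K))
    haveI : (P : Subgroup K).Characteristic := Sylow.characteristic_of_normal P inferInstance
    set N : Subgroup G := (P : Subgroup K).map K.subtype with hN0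
    have hNH : N ≤ H := (map_subtype_le _).trans hKH
    haveI : (N.subgroupOf H).Normal :=
      (normal_subgroupOf_iff_le_normalizer hNH).2 (le_normalizer_map_of_characteristic hnorm _)
    obtain ⟨k, hk⟩ := IsPGroup.iff_card.1 P.2
    have hcard : Nat.card (N.subgroupOf H) = q ^ k := by
      rw [Nat.card_congr (subgroupOfEquivOfLe hNH).toEquiv, hN0,
        card_map_of_injective K.subtype_injective, hk]
    have h1 : ¬ 2 ∣ Nat.card (N.subgroupOf H) := by
      rw [hcard]
      intro h
      exact hne ((Nat.prime_dvd_prime_iff_eq Nat.prime_two hq).1 (Nat.prime_two.dvd_of_dvd_pow h)).symm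
    have h3 := CfsgLib.Coprime.le_pPrimeCore_of_not_dvd Nat.prime_two h1
    have h4 : N.subgroupOf H = ⊥ := le_bot_iff.1 (h3.trans hcore.le)
    have h5 : Nat.card (N.subgroupOf H) = 1 := by rw [h4, card_bot]
    have h6 : ¬ q ∣ (P : Subgroup K).index := P.not_dvd_index
    have h7 := (P : Subgroup K).card_mul_index
    rw [hk, ← hcard, h5, one_mul] at h7
    exact h6 (h7.symm ▸ hqK)
  haveI : Fact (Nat.Prime 2) := ⟨Nat.prime_two⟩
  have hK2 : IsPGroup 2 K := IsPGroup.of_card (n := (Nat.card K).primeFactorsList.length)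
    (Nat.eq_prime_pow_of_unique_prime_dvd Nat.card_pos.ne' fun {q} hq hd => h2 q hq hd)
  refine ⟨hK2, fun s hs t ht hso hto => ?_⟩
  -- the involutions of `H` are central in `K`
  have hsK : (⟨s, htwo (invol_mem_twoGen hs hso)⟩ : K) ≠ 1 := fun e => by
    rw [show s = 1 from congrArg Subtype.val e, orderOf_one] at hso
    exact absurd hso (by decide)
  haveI : Nontrivial K := ⟨⟨_, _, hsK⟩⟩
  haveI := hK2.center_nontrivial
  have hZ : IsPGroup 2 (center K) := hK2.to_subgroup _
  obtain ⟨z, hz⟩ := exists_prime_orderOf_dvd_card' 2 (hZ.card_eq_or_dvd.resolve_left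
    (Finite.one_lt_card (α := center K)).ne')
  set C : Subgroup G := (center K).map K.subtype with hC
  have hCn := le_normalizer_map_of_characteristic (K := K) hnorm (center K)
  have hall : ∀ u ∈ H, orderOf u = 2 → u ∈ C := by
    intro u hu huo
    have hzo : orderOf (((z : K) : G)) = 2 := by
      rw [Subgroup.orderOf_coe, Subgroup.orderOf_coe, hz]
    obtain ⟨h, hh, rfl⟩ := hconj _ (hKH (z : K).2) u hu hzo huo
    exact (mem_normalizer_iff.1 (hCn hh) _).1 ⟨(z : K), z.2, rfl⟩
  obtain ⟨s', hs', rfl⟩ := hall s hs hso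
  exact congrArg Subtype.val
    ((mem_center_iff.1 hs' ⟨t, htwo (invol_mem_twoGen ht hto)⟩).symm)

end CfsgLib.Bender.Transfer
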